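import Cfsg.Agent.Lib.Sporadic.HNSub.X.Tree3

set_option autoImplicit false
set_option maxRecDepth 20000

/-! Generated certificate (owner: helper25). -/

namespace CfsgLib.Sporadic.HNSub.X
open CfsgLib.Recog.SporBound (Q)

/-- The certificate. -/
noncomputable def cert : CfsgLib.Sporadic.PairEnum.Cert where
  n := 4500
  nd := 16079
  nf := 60668
  nl := 4
  kl := [0, 2]
  facts := (.node (.node (.node ft1 ft2 ft3 ft4) (.node ft5 ft6 ft7 ft8) (.node ft9 ft10 ft11 ft12) (.node ft13 ft14 ft15 ft16)) (.node (.node ft17 ft18 ft19 ft20) (.node ft21 ft22 ft23 ft24) (.node ft25 ft26 ft27 ft28) (.node ft29 ft30 ft31 ft32)) (.node (.node ft33 ft34 ft35 ft36) (.node ft37 ft38 ft39 ft40) (.node ft41 ft42 ft43 ft44) (.node ft45 ft46 ft47 ft48)) (.node (.node ft49 ft50 ft51 ft52) (.node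 ft53 ft54 ft55 ft56) (.node ft57 ft58 ft59 ft60) (.node ft61 ft62 ft63 ft64)))
  cn := (.node ct65 ct66 ct67 ct68)
  steps := (.node (.node (.node (.node st69 st70 st71 st72) (.node st73 st74 st75 st76) (.node st77 st78 st79 st80) (.node st81 st82 st83 st84)) (.node (.node st85 st86 st87 st88) (.node st89 st90 st91 st92) (.node st93 st94 st95 st96) (.node st97 st98 st99 st100)) (.node (.node st101 st102 st103 st104) (.node st105 st106 st107 st108) (.node st109 st110 st111 st112) (.node st113 st114 st115 st116)) (.node (.node st117 st118 st119 st120) (.node st121 st122 st123 st124) (.node st125 st126 st127 st128) (.node st129 st130 st131 st132))) (.node (.node (.node st133 st134 st135 st136) (.node st137 st138 st139 st140) (.node st141 st142 st143 st144) (.node st145 st146 st147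 st148)) (.node (.node st149 st150 st151 st152) (.node st153 st154 st155 st156) (.node st157 st158 st159 st160) (.node st161 st162 st163 st164)) (.node (.node st165 st166 st167 st168) (.node st169 st170 st171 st172) (.node st173 st174 st175 st176) (.node st177 st178 st179 st180)) (.node (.node st181 st182 st183 st184) (.node st185 st186 st187 st188) (.node st189 st190 st191 st192) (.node st193 st194 st195 st196))) (.node (.node (.node st197 st198 st199 st200) (.node st201 st202 st203 st204) (.node st205 st206 st207 st208) (.node st209 st210 st211 st212)) (.node (.node st213 st214 st215 st216) (.node st217 st218 st219 st220) (.node st221 st222 st223 st224) (.node st225 st226 st227 st228)) (.node (.node st229 st230 st231 st232) (.node st233 st234 st235 st236) (.node st237 st238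 st239 st240) (.node st241 st242 st243 st244)) (.node (.node st245 st246 st247 st248) (.node st249 st250 st251 st252) (.node st253 st254 st255 st256) (.node st257 st258 st259 st260))) (.node (.node (.node st261 st262 st263 st264) (.node st265 st266 st267 st268) (.node st269 st270 st271 st272) (.node st273 st274 st275 st276)) (.node (.node st277 st278 st279 st280) (.node st281 st282 st283 st284) (.node st285 st286 st287 st288) (.node st289 st290 st291 st292)) (.node (.node st293 st294 st295 st296) (.node st297 st298 st299 st300) (.node st301 st302 st303 st304) (.node st305 st306 st307 st308)) (.node (.node st309 st310 st311 st312) (.node st313 st314 st315 st316) (.node st317 st318 st319 st320) (.node st321 st322 st323 st324))))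
  finals := (.node (.node et326 et328 et330 et332) (.node et334 et336 et338 et339) (.node et341 et343 et345 et346) (.node et348 et350 et352 et353))
  rels := [[0, 0], [2, 2, 2, 2, 2, 2], [0, 3, 0, 2, 0, 3, 0, 2, 0, 3, 0, 2], [0, 2, 2, 0, 2, 2, 2, 0, 2, 2, 0, 2, 2, 2, 0, 2, 2, 0, 2, 2, 2], [0, 2, 0, 2, 0, 2, 0, 2, 0, 2, 0, 2, 0, 2, 0, 2], [0, 2, 0, 2, 2, 2, 0, 2, 0, 2, 2, 2, 0, 2, 0, 2, 2, 2, 0, 2, 0, 2, 2, 2], [0, 2, 0, 2, 0, 2, 0, 2, 0, 2, 0, 2, 0, 2, 0, 2], [0, 2, 0, 2, 0, 2, 0, 2, 0, 2, 0, 2, 0, 2, 0, 2, 0, 2, 0, 2, 0, 2, 0, 2, 0, 2, 0, 2, 0, 2, 0, 2, 0, 2, 0, 2, 0, 2, 0, 2, 0, 2, 0, 2, 0, 2, 0, 2], [0, 2, 0, 2, 2, 2, 0, 2, 0, 2, 2, 2, 0, 2, 0, 2, 2, 2, 0, 2, 0, 2, 2, 2], [0, 2, 2, 0, 2, 2, 2, 0, 2, 2, 0, 2, 2, 2, 0, 2, 2, 0, 2, 2, 2], [0, 2, 0, 2, 0, 2, 0, 2, 0, 2, 0, 2,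 0, 2, 0, 2, 0, 2, 0, 2, 0, 2, 0, 2, 0, 2, 0, 2, 0, 2, 0, 2, 0, 2, 0, 2, 0, 2, 0, 2, 0, 2, 0, 2, 0, 2, 0, 2, 0, 2, 0, 2, 0, 2, 0, 2, 0, 2, 0, 2, 0, 2, 0, 2, 0, 2, 0, 2, 0, 2, 0, 2, 0, 2, 0, 2, 0, 2, 0, 2], [0, 3, 0, 3, 0, 3, 0, 3, 0, 3, 0, 3, 0, 3, 0, 3], [0, 2, 0, 3, 0, 2, 0, 3, 0, 2, 0, 3], [0, 3, 0, 3, 0, 3, 0, 3, 0, 3, 0, 3, 0, 3, 0, 3, 0, 3, 0, 3, 0, 3, 0, 3, 0, 3, 0, 3, 0, 3, 0, 3, 0, 3, 0, 3, 0, 3, 0, 3, 0, 3, 0, 3, 0, 3, 0, 3], [0, 2, 0, 3, 0, 2, 0, 3, 0, 2, 0, 3, 0, 2, 0, 3, 0, 2, 0, 3, 0, 2, 0, 3], [0, 3, 0, 3, 0, 3, 0, 3, 0, 3, 0, 3, 0, 3, 0, 3, 0, 3, 0, 3, 0, 3, 0, 3, 0, 3, 0, 3, 0, 3, 0, 3, 0, 3, 0, 3, 0, 3, 0, 3, 0, 3, 0, 3, 0, 3, 0, 3, 0, 3, 0, 3, 0, 3, 0, 3, 0, 3, 0, 3, 0, 3, 0, 3, 0, 3, 0, 3, 0, 3, 0, 3, 0, 3, 0, 3, 0, 3, 0, 3], [0, 3, 0, 3, 3, 3, 0, 3, 0, 3,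 3, 3, 0, 3, 0, 3, 3, 3, 0, 3, 0, 3, 3, 3], [0, 3, 3, 0, 3, 3, 3, 0, 3, 3, 0, 3, 3, 3, 0, 3, 3, 0, 3, 3, 3], [0, 2, 2, 2, 2, 2, 2, 0, 2, 2, 2, 2, 2, 2], [0, 3, 3, 3, 3, 3, 3, 0, 3, 3, 3, 3, 3, 3], [0, 3, 0, 3, 3, 3, 3, 3, 0, 3, 0, 3, 3, 3, 3, 3, 0, 3, 0, 3, 3, 3, 3, 3], [0, 2, 2, 0, 2, 2, 2, 2, 2, 2, 0, 2, 2, 0, 2, 2, 2, 2, 2, 2, 0, 2, 2, 0, 2, 2, 2, 2, 2, 2], [0, 2, 2, 0, 3, 3, 3, 3, 3, 3, 0, 2, 2, 0, 3, 3, 3, 3, 3, 3, 0, 2, 2, 0, 3, 3, 3, 3, 3, 3], [0, 3, 3, 0, 3, 3, 3, 3, 3, 3, 0, 3, 3, 0, 3, 3, 3, 3, 3, 3, 0, 3, 3, 0, 3, 3, 3, 3, 3, 3], [0, 2, 0, 2, 2, 2, 2, 2, 2, 0, 2, 0, 2, 2, 2, 2, 2, 2, 0, 2, 0, 2, 2, 2, 2, 2, 2, 0, 2, 0, 2, 2, 2, 2, 2, 2, 0, 2, 0, 2, 2, 2, 2, 2, 2, 0, 2, 0, 2, 2, 2, 2, 2, 2], [0, 2, 0, 3, 3, 3, 3, 3, 3, 0, 2, 0, 3, 3, 3, 3, 3, 3, 0, 2, 0, 3, 3, 3, 3,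 3, 3, 0, 2, 0, 3, 3, 3, 3, 3, 3, 0, 2, 0, 3, 3, 3, 3, 3, 3, 0, 2, 0, 3, 3, 3, 3, 3, 3], [0, 3, 0, 3, 3, 3, 3, 3, 3, 0, 3, 0, 3, 3, 3, 3, 3, 3, 0, 3, 0, 3, 3, 3, 3, 3, 3, 0, 3, 0, 3, 3, 3, 3, 3, 3, 0, 3, 0, 3, 3, 3, 3, 3, 3, 0, 3, 0, 3, 3, 3, 3, 3, 3], [0, 2, 2, 0, 3, 3, 3, 0, 2, 2, 0, 3, 3, 3, 0, 2, 2, 0, 3, 3, 3], [0, 2, 2, 2, 2, 0, 3, 3, 3, 0, 2, 2, 2, 2, 0, 3, 3, 3, 0, 2, 2, 2, 2, 0, 3, 3, 3], [0, 2, 2, 2, 2, 2, 2, 0, 3, 0, 2, 2, 2, 2, 2, 2, 0, 3, 0, 2, 2, 2, 2, 2, 2, 0, 3, 0, 2, 2, 2, 2, 2, 2, 0, 3, 0, 2, 2, 2, 2, 2, 2, 0, 3, 0, 2, 2, 2, 2, 2, 2, 0, 3], [0, 2, 2, 2, 2, 2, 2, 0, 3, 3, 0, 2, 2, 2, 2, 2, 2, 0, 3, 3, 0, 2, 2, 2, 2, 2, 2, 0, 3, 3], [0, 2, 0, 3, 3, 3, 3, 3, 0, 2, 0, 3, 3, 3, 3, 3, 0, 2, 0, 3, 3, 3, 3, 3, 0, 2, 0, 3, 3, 3, 3, 3], [0, 2, 0, 2, 2, 2, 2, 2, 2, 2,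 0, 2, 0, 2, 2, 2, 2, 2, 2, 2, 0, 2, 0, 2, 2, 2, 2, 2, 2, 2, 0, 2, 0, 2, 2, 2, 2, 2, 2, 2], [0, 3, 3, 3, 3, 3, 0, 3, 3, 3, 3, 3, 0, 3, 3, 3, 3, 3, 0, 3, 3, 3, 3, 3, 0, 3, 3, 3, 3, 3, 0, 3, 3, 3, 3, 3, 0, 3, 3, 3, 3, 3, 0, 3, 3, 3, 3, 3], [0, 2, 2, 2, 2, 2, 2, 2, 0, 2, 2, 2, 2, 2, 2, 2, 0, 2, 2, 2, 2, 2, 2, 2, 0, 2, 2, 2, 2, 2, 2, 2, 0, 2, 2, 2, 2, 2, 2, 2, 0, 2, 2, 2, 2, 2, 2, 2, 0, 2, 2, 2, 2, 2, 2, 2, 0, 2, 2, 2, 2, 2, 2, 2], [0, 2, 0, 2, 0, 3, 3, 3, 3, 3, 0, 2, 0, 2, 0, 3, 3, 3, 3, 3, 0, 2, 0, 2, 0, 3, 3, 3, 3, 3, 0, 2, 0, 2, 0, 3, 3, 3, 3, 3, 0, 2, 0, 2, 0, 3, 3, 3, 3, 3, 0, 2, 0, 2, 0, 3, 3, 3, 3, 3, 0, 2, 0, 2, 0, 3, 3, 3, 3, 3, 0, 2, 0, 2, 0, 3, 3, 3, 3, 3], [0, 2, 2, 2, 2, 2, 2, 2, 0, 3, 0, 2, 2, 2, 2, 2, 2, 2, 0, 3, 0, 2, 2, 2, 2, 2, 2, 2, 0, 3], [0, 2, 0, 3, 3, 3,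 0, 2, 0, 3, 3, 3, 0, 2, 0, 3, 3, 3, 0, 2, 0, 3, 3, 3]]
  subs := [[0, 2, 0, 3], [0, 2, 0, 2]]

end CfsgLib.Sporadic.HNSub.X
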